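import Mathlib

/-!
# Project VF (S5286): every fusion system is realised by a virtually free group

Abstract setting (independent of the Prelude): a group `T`, a family of isomorphisms
`e i : A i ≃* B i` between subgroups of `T`, and permutations `σ i` of the set `T`
intertwining the left regular actions of `A i` and of `B i` (through `e i`).
We realise the multiple HNN extension concretely as the subgroup
`VF.G D = ⟨ι₀(T), t_i⟩` of the semidirect product `FreeGroup X ⋊ Perm T`, where
`X = Σ i, Perm T ⧸ λ(B i)` and `t_i = (x_i, σ i)`.
-/

set_option autoImplicit false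

namespace Cfsg.Agent.Lib.Helper27.VF

universe u

/-- word norm in a free group, with the classical decidable equality built in -/
noncomputable def nm {α : Type*} (w : FreeGroup α) : ℕ :=
  @FreeGroup.norm α (Classical.decEq α) w

/-- a letter: `lt x true = of x`, `lt x false = (of x)⁻¹` -/
def lt {α : Type*} (x : α) (b : Bool) : FreeGroup α := FreeGroup.mk [(x, b)]

/-- The data: isomorphisms between subgroups of `T`, each realised (through the left regular
representation of `T`) by a permutation of the set `T`. -/
structure Datum (T : Type u) [Group T] where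
  I : Type u
  A : I → Subgroup T
  B : I → Subgroup T
  e : ∀ i, A i ≃* B i
  σ : I → Equiv.Perm T
  hσ : ∀ i (a : A i) (t : T), σ i ((a : T) * t) = (e i a : T) * σ i t

variable {T : Type u} [Group T]

/-- left regular representation -/
abbrev lam (T : Type u) [Group T] : T →* Equiv.Perm T := MulAction.toPermHom T T

/-- the image of `B i` under the left regular representation -/
abbrev Datum.H (D : Datum T) (i : D.I) : Subgroup (Equiv.Perm T) := (D.B i).map (lam T)

/-- the letters -/
abbrev Datum.X (D : Datum T) : Type u := Σ i : D.I, (Equiv.Perm T ⧸ D.H i)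

/-- the action of `Perm T` on the free group on the letters -/
noncomputable def Datum.act (D : Datum T) : Equiv.Perm T →* MulAut (FreeGroup D.X) where
  toFun g := FreeGroup.freeGroupCongr (MulAction.toPerm g)
  map_one' := by
    apply MulEquiv.toMonoidHom_injective
    ext x
    simp
  map_mul' g h := by
    apply MulEquiv.toMonoidHom_injective
    ext x
    simp [mul_smul]

/-- the ambient semidirect product -/
abbrev Datum.G₀ (D : Datum T) : Type u := FreeGroup D.X ⋊[D.act] Equiv.Perm T

/-- the embedding of `T` -/
noncomputable def Datum.ι₀ (D : Datum T) : T →* D.G₀ := SemidirectProduct.inr.comp (lam T)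

/-- the base letter of index `i` -/
def Datum.x (D : Datum T) (i : D.I) : D.X := ⟨i, ((1 : Equiv.Perm T) : Equiv.Perm T ⧸ D.H i)⟩

/-- the stable letters -/
noncomputable def Datum.t (D : Datum T) (i : D.I) : D.G₀ := ⟨FreeGroup.of (D.x i), D.σ i⟩

/-- the group -/
noncomputable def Datum.G (D : Datum T) : Subgroup D.G₀ :=
  Subgroup.closure (Set.range D.ι₀ ∪ Set.range D.t)

theorem Datum.ι₀_mem (D : Datum T) (s : T) : D.ι₀ s ∈ D.G :=
  Subgroup.subset_closure (Or.inl ⟨s, rfl⟩)

theorem Datum.t_mem (D : Datum T) (i : D.I) : D.t i ∈ D.G :=
  Subgroup.subset_closure (Or.inr ⟨i, rfl⟩)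

/-- the embedding of `T` into `G` -/
noncomputable def Datum.ι (D : Datum T) : T →* D.G := D.ι₀.codRestrict D.G D.ι₀_mem

/-- length of the free part -/
noncomputable def Datum.len (D : Datum T) (g : D.G₀) : ℕ := nm g.left

/-- the letter with which the left component of `t_i` (`b = true`) resp. `t_i⁻¹` (`b = false`)
starts -/
noncomputable def Datum.yl (D : Datum T) (i : D.I) (b : Bool) : D.X :=
  if b then D.x i else (D.σ i)⁻¹ • D.x i

/-- the stable letter or its inverse -/
noncomputable def Datum.tb (D : Datum T) (i : D.I) (b : Bool) : D.G₀ :=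
  if b then D.t i else (D.t i)⁻¹

/-- elements in normal form with `n` stable letters -/
inductive Datum.R (D : Datum T) : ℕ → D.G₀ → Prop
  | base (s : T) : Datum.R D 0 (D.ι₀ s)
  | step (n : ℕ) (s : T) (i : D.I) (b : Bool) (r : D.G₀) : Datum.R D n r →
      D.len (D.tb i b * r) = n + 1 → Datum.R D (n + 1) (D.ι₀ s * D.tb i b * r)

end Cfsg.Agent.Lib.Helper27.VF
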