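import Mathlib
import Cfsg.Agent.Lib.Helper27.VF.Defs

/-! Project VF (S5286), piece FGa : basic letter calculus in a free group, plus the toolkit
`h27_tw` (classical reduced word), `h27_tw_lt_mul` (reduced word of a letter times a word). -/

set_option autoImplicit false
set_option linter.style.haveILetI false

namespace Cfsg.Agent.Lib.Helper27.VF

section FG
variable {α : Type*}

/-- the reduced word, with the classical decidable equality -/
noncomputable def h27_tw (w : FreeGroup α) : List (α × Bool) :=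
  @FreeGroup.toWord α (Classical.decEq α) w

theorem h27_nm_eq (w : FreeGroup α) : nm w = (h27_tw w).length := rfl

theorem h27_tw_reduced (w : FreeGroup α) : FreeGroup.IsReduced (h27_tw w) := by
  letI := Classical.decEq α
  exact FreeGroup.isReduced_toWord

theorem h27_mk_tw (w : FreeGroup α) : FreeGroup.mk (h27_tw w) = w := by
  letI := Classical.decEq α
  exact FreeGroup.mk_toWord

theorem h27_tw_mk {L : List (α × Bool)} (h : FreeGroup.IsReduced L) :
    h27_tw (FreeGroup.mk L) = L := by
  letI := Classical.decEq α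
  show FreeGroup.toWord (FreeGroup.mk L) = L
  rw [FreeGroup.toWord_mk, h.reduce_eq]

theorem h27_tw_inj {v w : FreeGroup α} (h : h27_tw v = h27_tw w) : v = w := by
  rw [← h27_mk_tw v, ← h27_mk_tw w, h]

theorem h27_tw_inv (w : FreeGroup α) : h27_tw w⁻¹ = FreeGroup.invRev (h27_tw w) := by
  letI := Classical.decEq α
  exact FreeGroup.toWord_inv w

theorem h27_mk_cons (x : α) (b : Bool) (L : List (α × Bool)) :
    FreeGroup.mk ((x, b) :: L) = lt x b * FreeGroup.mk L := rfl

theorem h27_mk_append (L₁ L₂ : List (α × Bool)) :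
    FreeGroup.mk (L₁ ++ L₂) = FreeGroup.mk L₁ * FreeGroup.mk L₂ := rfl

/-- the key lemma: the reduced word of `lt x b * w` -/
theorem h27_tw_lt_mul (x : α) (b : Bool) (w : FreeGroup α) :
    (h27_tw (lt x b * w) = (x, b) :: h27_tw w) ∨
    (h27_tw w = (x, !b) :: h27_tw (lt x b * w)) := by
  letI := Classical.decEq α
  have h1 : h27_tw (lt x b * w) = FreeGroup.reduce ((x, b) :: h27_tw w) := by
    show FreeGroup.toWord (lt x b * w) = _
    rw [FreeGroup.toWord_mul]
    show FreeGroup.reduce (FreeGroup.reduce [(x, b)] ++ FreeGroup.toWord w) = _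
    rfl
  rw [h1, FreeGroup.reduce.cons, (h27_tw_reduced w).reduce_eq]
  rcases h : h27_tw w with _ | ⟨⟨y, c⟩, L⟩
  · left; rfl
  · simp only
    by_cases hc : x = y ∧ b = !c
    · right
      rw [if_pos hc]
      obtain ⟨rfl, rfl⟩ := hc
      simp
    · left
      rw [if_neg hc]

theorem nm_one : nm (1 : FreeGroup α) = 0 := by
  letI := Classical.decEq α
  exact FreeGroup.norm_one

theorem nm_eq_zero {w : FreeGroup α} : nm w = 0 ↔ w = 1 := by
  letI := Classical.decEq α
  exact FreeGroup.norm_eq_zero

theorem nm_inv (w : FreeGroup α) : nm w⁻¹ = nm w := by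
  letI := Classical.decEq α
  exact FreeGroup.norm_inv_eq

theorem nm_mul_le (v w : FreeGroup α) : nm (v * w) ≤ nm v + nm w := by
  letI := Classical.decEq α
  exact FreeGroup.norm_mul_le v w

theorem lt_true (x : α) : lt x true = FreeGroup.of x := rfl

theorem lt_false (x : α) : lt x false = (FreeGroup.of x)⁻¹ := rfl

theorem lt_inv (x : α) (b : Bool) : (lt x b)⁻¹ = lt x (!b) := rfl

theorem h27_tw_lt (x : α) (b : Bool) : h27_tw (lt x b) = [(x, b)] :=
  h27_tw_mk (by simp [FreeGroup.IsReduced])

theorem nm_lt (x : α) (b : Bool) : nm (lt x b) = 1 := by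
  rw [h27_nm_eq, h27_tw_lt]
  rfl

theorem congr_lt (e : α ≃ α) (x : α) (b : Bool) :
    FreeGroup.freeGroupCongr e (lt x b) = lt (e x) b := rfl

theorem lt_inj {x y : α} {b c : Bool} (h : lt x b = lt y c) : x = y ∧ b = c := by
  have := congrArg h27_tw h
  rw [h27_tw_lt, h27_tw_lt] at this
  simpa using this

theorem nm_congr (e : α ≃ α) (w : FreeGroup α) :
    nm (FreeGroup.freeGroupCongr e w) = nm w := by
  rw [h27_nm_eq, h27_nm_eq]
  have h : FreeGroup.mk ((h27_tw w).map (fun p => (e p.1, p.2))) =
      FreeGroup.freeGroupCongr e w := by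
    conv_rhs => rw [← h27_mk_tw w]
    rfl
  have hred : FreeGroup.IsReduced ((h27_tw w).map (fun p => (e p.1, p.2))) := by
    have h0 := h27_tw_reduced w
    unfold FreeGroup.IsReduced at *
    rw [List.isChain_map]
    refine h0.imp ?_
    intro a b hab h1
    exact hab (e.injective h1)
  rw [← h, h27_tw_mk hred, List.length_map]

theorem nm_lt_mul (x : α) (b : Bool) (w : FreeGroup α) :
    nm (lt x b * w) = nm w + 1 ∨ nm (lt x b * w) + 1 = nm w := by
  rw [h27_nm_eq, h27_nm_eq]
  rcases h27_tw_lt_mul x b w with h | h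
  · left; rw [h]; rfl
  · right; rw [h]; rfl

theorem exists_first (w : FreeGroup α) (hw : w ≠ 1) :
    ∃ (x : α) (b : Bool) (w' : FreeGroup α), w = lt x b * w' ∧ nm w = nm w' + 1 := by
  rcases h : h27_tw w with _ | ⟨⟨x, b⟩, L⟩
  · exfalso
    apply hw
    rw [← h27_mk_tw w, h]
    rfl
  · have hred : FreeGroup.IsReduced L := by
      have := h27_tw_reduced w
      rw [h] at this
      unfold FreeGroup.IsReduced at *
      exact this.tail
    refine ⟨x, b, FreeGroup.mk L, ?_, ?_⟩
    · rw [← h27_mk_cons, ← h, h27_mk_tw]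
    · rw [h27_nm_eq, h27_nm_eq, h, h27_tw_mk hred]
      rfl

end FG

end Cfsg.Agent.Lib.Helper27.VF
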