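import Mathlib
import Cfsg.Agent.Lib.Helper27.VF.Defs

/-! Project VF (S5286), piece LFT : left components in the semidirect product. -/

set_option autoImplicit false

namespace Cfsg.Agent.Lib.Helper27.VF

universe u
variable {T : Type u} [Group T]

theorem h27_nm_congr {α : Type*} (e : α ≃ α) (w : FreeGroup α) :
    nm (FreeGroup.freeGroupCongr e w) = nm w := by
  unfold nm
  letI := Classical.decEq α
  show (FreeGroup.map e w).norm = w.norm
  unfold FreeGroup.norm
  have h : FreeGroup.mk ((FreeGroup.toWord w).map (fun p => (e p.1, p.2))) = FreeGroup.map e w := by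
    conv_rhs => rw [← FreeGroup.mk_toWord (x := w)]
    rfl
  rw [← h, FreeGroup.toWord_mk]
  have hred : FreeGroup.IsReduced ((FreeGroup.toWord w).map (fun p => (e p.1, p.2))) := by
    have h0 := FreeGroup.isReduced_toWord (x := w)
    unfold FreeGroup.IsReduced at *
    rw [List.isChain_map]
    refine h0.imp ?_
    intro a b hab h1
    apply hab
    have := e.injective h1
    exact this
  rw [hred.reduce_eq, List.length_map]

theorem ι₀_left (D : Datum T) (s : T) : (D.ι₀ s).left = 1 := rfl

theorem ι₀_right (D : Datum T) (s : T) : (D.ι₀ s).right = lam T s := rfl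

theorem act_lt (D : Datum T) (g : Equiv.Perm T) (x : D.X) (b : Bool) :
    D.act g (lt x b) = lt (g • x) b := rfl

theorem nm_act (D : Datum T) (g : Equiv.Perm T) (w : FreeGroup D.X) :
    nm (D.act g w) = nm w := h27_nm_congr _ w

theorem tb_left (D : Datum T) (i : D.I) (b : Bool) : (D.tb i b).left = lt (D.yl i b) b := by
  cases b
  · simp only [Datum.tb, Datum.yl, Bool.false_eq_true, if_false, SemidirectProduct.inv_left]
    show D.act (D.σ i)⁻¹ (FreeGroup.of (D.x i))⁻¹ = lt ((D.σ i)⁻¹ • D.x i) false
    rw [map_inv]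
    rfl
  · rfl

theorem tb_right (D : Datum T) (i : D.I) (b : Bool) :
    (D.tb i b).right = if b then D.σ i else (D.σ i)⁻¹ := by
  cases b
  · simp [Datum.tb, Datum.t]
  · rfl

theorem tb_inv (D : Datum T) (i : D.I) (b : Bool) : (D.tb i b)⁻¹ = D.tb i (!b) := by
  cases b <;> simp [Datum.tb]

theorem tb_mem (D : Datum T) (i : D.I) (b : Bool) : D.tb i b ∈ D.G := by
  cases b
  · simpa [Datum.tb] using D.G.inv_mem (D.t_mem i)
  · simpa [Datum.tb] using D.t_mem i

theorem len_ι₀_mul (D : Datum T) (s : T) (g : D.G₀) : D.len (D.ι₀ s * g) = D.len g := by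
  unfold Datum.len
  rw [SemidirectProduct.mul_left, ι₀_left, one_mul]
  exact nm_act D _ _

theorem len_mul_ι₀ (D : Datum T) (g : D.G₀) (s : T) : D.len (g * D.ι₀ s) = D.len g := by
  unfold Datum.len
  rw [SemidirectProduct.mul_left, ι₀_left, map_one, mul_one]

theorem h27_nm_inv {α : Type*} (w : FreeGroup α) : nm w⁻¹ = nm w := by
  unfold nm
  letI := Classical.decEq α
  exact FreeGroup.norm_inv_eq

theorem len_inv (D : Datum T) (g : D.G₀) : D.len g⁻¹ = D.len g := by
  unfold Datum.len
  rw [SemidirectProduct.inv_left, nm_act, h27_nm_inv]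

theorem len_one (D : Datum T) : D.len 1 = 0 := by
  unfold Datum.len nm
  letI := Classical.decEq D.X
  simp

end Cfsg.Agent.Lib.Helper27.VF
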