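import Mathlib
import Cfsg.Agent.Lib.Helper27.VF.LFT
import Cfsg.Agent.Lib.Helper27.VF.FGa
import Cfsg.Agent.Lib.Helper22.VFFGb
import Cfsg.Agent.Lib.Helper22.VFSTB
import Cfsg.Agent.Lib.Helper22.VFT12

/-! Project VF (S5286), piece NF : the normal form. -/

set_option autoImplicit false

namespace Cfsg.Agent.Lib.Helper27.VF

universe u
variable {T : Type u} [Group T]

/-- VF-NF1 -/
theorem R_mem_len (D : Datum T) (n : ℕ) (g : D.G₀) (h : D.R n g) : g ∈ D.G ∧ D.len g = n := by
  induction h with
  | base s =>
    refine ⟨D.ι₀_mem s, ?_⟩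
    have := len_mul_ι₀ D 1 s
    rw [one_mul] at this
    rw [this, len_one]
  | step n s i b r hr hlen ih =>
    refine ⟨mul_mem (mul_mem (D.ι₀_mem s) (tb_mem D i b)) ih.1, ?_⟩
    rw [mul_assoc, len_ι₀_mul]
    exact hlen

theorem h27_ι₀_mul_R (D : Datum T) (s' : T) (n : ℕ) (g : D.G₀) (h : D.R n g) :
    D.R n (D.ι₀ s' * g) := by
  cases h with
  | base s =>
    rw [← map_mul]
    exact Datum.R.base _
  | step n s i b r hr hlen =>
    have : D.ι₀ s' * (D.ι₀ s * D.tb i b * r) = D.ι₀ (s' * s) * D.tb i b * r := by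
      rw [map_mul]
      simp only [mul_assoc]
    rw [this]
    exact Datum.R.step n _ i b r hr hlen

theorem h27_len_tb (D : Datum T) (i : D.I) (b : Bool) : D.len (D.tb i b) = 1 := by
  unfold Datum.len
  rw [tb_left]
  exact nm_lt _ _

theorem h27_R_one (D : Datum T) : D.R 0 1 := by
  have := Datum.R.base (D := D) 1
  rwa [map_one] at this

theorem h27_tb_mul_R (D : Datum T) (j : D.I) (c : Bool) (n : ℕ) (g : D.G₀) (h : D.R n g) :
    ∃ m, D.R m (D.tb j c * g) := by
  cases h with
  | base s =>
    refine ⟨1, ?_⟩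
    have h1 : D.len (D.tb j c * D.ι₀ s) = 0 + 1 := by
      rw [len_mul_ι₀, h27_len_tb]
    have := Datum.R.step 0 1 j c (D.ι₀ s) (Datum.R.base s) h1
    rwa [map_one, one_mul] at this
  | step n s i b r hr hlen =>
    set g := D.ι₀ s * D.tb i b * r with hg
    have hRg : D.R (n + 1) g := Datum.R.step n s i b r hr hlen
    have hlg : D.len g = n + 1 := (R_mem_len D _ _ hRg).2
    have hlr : D.len r = n := (R_mem_len D _ _ hr).2
    -- the left component of `tb j c * g`
    set ρj := (D.tb j c).right with hρj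
    set ρi := (D.tb i b).right with hρi
    have hleft : (D.tb j c * g).left = lt (D.yl j c) c * D.act ρj g.left := by
      rw [SemidirectProduct.mul_left, tb_left]
    have hgl : g.left = lt (lam T s • D.yl i b) b * D.act (lam T s) (D.act ρi r.left) := by
      rw [hg, mul_assoc, SemidirectProduct.mul_left, ι₀_left, one_mul, ι₀_right,
        SemidirectProduct.mul_left, tb_left, map_mul, act_lt]
    set w'' := D.act ρj (D.act (lam T s) (D.act ρi r.left)) with hw''
    have hnw'' : nm w'' = n := by
      rw [hw'', nm_act, nm_act, nm_act]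
      exact hlr
    set u := D.act ρj g.left with hu
    have hu1 : u = lt (ρj • lam T s • D.yl i b) b * w'' := by
      rw [hu, hgl, map_mul, act_lt]
    have hnu : nm u = n + 1 := by
      rw [hu, nm_act]
      exact hlg
    rcases nm_lt_mul (D.yl j c) c u with h1 | h1
    · -- no cancellation
      refine ⟨n + 1 + 1, ?_⟩
      have h2 : D.len (D.tb j c * g) = n + 1 + 1 := by
        unfold Datum.len
        rw [hleft, h1, hnu]
      have := Datum.R.step (n + 1) 1 j c g hRg h2
      rwa [map_one, one_mul] at this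
    · -- cancellation
      refine ⟨n, ?_⟩
      have h2 : nm (lt (D.yl j c) c * u) = n := by omega
      have h3 : u = lt (D.yl j c) (!c) * (lt (D.yl j c) c * u) := by
        rw [← lt_inv, inv_mul_cancel_left]
      have h4 := first_unique (ρj • lam T s • D.yl i b) (D.yl j c) b (!c) w''
        (lt (D.yl j c) c * u) (by rw [← hu1, ← h3]) (by rw [← hu1, hnu, hnw''])
        (by rw [← h3, hnu, h2])
      obtain ⟨h5, h6, -⟩ := h4
      cases c
      · -- `tb j c = (t j)⁻¹`, `b = true`
        have hb : b = true := by simpa using h6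
        subst hb
        have hρj' : ρj = (D.σ j)⁻¹ := by rw [hρj, tb_right]; rfl
        have h7 : lam T s • D.x i = D.x j := by
          have : ρj • lam T s • D.yl i true = ρj • D.x j := by
            rw [h5, hρj']
            rfl
          exact (MulAction.injective ρj) this
        have hij : i = j := x_smul_index D _ i j h7
        subst hij
        have h8 : lam T s ∈ D.H i := (smul_x_iff D _ i).mp h7
        have h9 : s ∈ D.B i := (lam_mem_H_iff D s i).mp h8
        have h10 : D.tb i false * g = D.ι₀ ((D.e i).symm ⟨s, h9⟩ : T) * r := by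
          rw [hg, ← t_rel_symm D i ⟨s, h9⟩]
          simp only [Datum.tb, Bool.false_eq_true, if_false, if_true, mul_assoc]
        rw [h10]
        exact h27_ι₀_mul_R D _ n r hr
      · -- `tb j c = t j`, `b = false`
        have hb : b = false := by simpa using h6
        subst hb
        have hρj' : ρj = D.σ j := by rw [hρj, tb_right]; rfl
        have h7 : (D.σ j * lam T s * (D.σ i)⁻¹) • D.x i = D.x j := by
          have : ρj • lam T s • D.yl i false = D.x j := h5
          rw [hρj'] at this
          rw [mul_smul, mul_smul]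
          exact this
        have hij : i = j := x_smul_index D _ i j h7
        subst hij
        have h8 : D.σ i * lam T s * (D.σ i)⁻¹ ∈ D.H i := (smul_x_iff D _ i).mp h7
        have h9 : s ∈ D.A i := conj_mem_H D s i h8
        have h10 : D.tb i true * g = D.ι₀ ((D.e i) ⟨s, h9⟩ : T) * r := by
          rw [hg, ← t_rel D i ⟨s, h9⟩]
          simp only [Datum.tb, Bool.false_eq_true, if_false, if_true, mul_assoc]
        rw [h10]
        exact h27_ι₀_mul_R D _ n r hr

/-- VF-NF2 -/
theorem exists_R (D : Datum T) (g : D.G₀) (hg : g ∈ D.G) : ∃ n, D.R n g := by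
  unfold Datum.G at hg
  induction hg using Subgroup.closure_induction_left with
  | one => exact ⟨0, h27_R_one D⟩
  | mul_left x hx y hy ih =>
    obtain ⟨n, hn⟩ := ih
    rcases hx with ⟨s, rfl⟩ | ⟨i, rfl⟩
    · exact ⟨n, h27_ι₀_mul_R D s n y hn⟩
    · exact h27_tb_mul_R D i true n y hn
  | inv_mul_cancel x hx y hy ih =>
    obtain ⟨n, hn⟩ := ih
    rcases hx with ⟨s, rfl⟩ | ⟨i, rfl⟩
    · rw [← map_inv]
      exact ⟨n, h27_ι₀_mul_R D s⁻¹ n y hn⟩
    · exact h27_tb_mul_R D i false n y hn

/-- VF-NF4 -/
theorem mem_range_of_len_zero (D : Datum T) (g : D.G₀) (hg : g ∈ D.G) (h : D.len g = 0) :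
    g ∈ D.ι₀.range := by
  obtain ⟨n, hn⟩ := exists_R D g hg
  have h1 := (R_mem_len D n g hn).2
  rw [h] at h1
  subst h1
  cases hn with
  | base s => exact ⟨s, rfl⟩

/-- VF-NF3 : an element of `G` whose left component is a prescribed first letter -/
theorem exists_tau (D : Datum T) (g : D.G₀) (hg : g ∈ D.G) (x : D.X) (b : Bool)
    (h : nm ((lt x b)⁻¹ * g.left) + 1 = nm g.left) : ∃ τ ∈ D.G, τ.left = lt x b := by
  obtain ⟨n, hn⟩ := exists_R D g hg
  cases hn with
  | base s =>
    exfalso
    rw [ι₀_left, nm_one] at h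
    omega
  | step n s i c r hr hlen =>
    have hlr : D.len r = n := (R_mem_len D _ _ hr).2
    set ρi := (D.tb i c).right with hρi
    have hgl : (D.ι₀ s * D.tb i c * r).left =
        lt (lam T s • D.yl i c) c * D.act (lam T s) (D.act ρi r.left) := by
      rw [mul_assoc, SemidirectProduct.mul_left, ι₀_left, one_mul, ι₀_right,
        SemidirectProduct.mul_left, tb_left, map_mul, act_lt]
    set w := (D.ι₀ s * D.tb i c * r).left with hw
    have hnw : nm w = n + 1 := (R_mem_len D _ _ (Datum.R.step n s i c r hr hlen)).2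
    set w' := D.act (lam T s) (D.act ρi r.left) with hw'
    have hnw' : nm w' = n := by
      rw [hw', nm_act, nm_act]
      exact hlr
    have h3 : w = lt x b * ((lt x b)⁻¹ * w) := by rw [mul_inv_cancel_left]
    have h4 := first_unique (lam T s • D.yl i c) x c b w' ((lt x b)⁻¹ * w)
      (by rw [← hgl, ← h3]) (by rw [← hgl, hnw, hnw']) (by rw [← h3]; omega)
    obtain ⟨h5, h6, -⟩ := h4
    subst h6
    refine ⟨D.ι₀ s * D.tb i c, mul_mem (D.ι₀_mem s) (tb_mem D i c), ?_⟩
    rw [SemidirectProduct.mul_left, ι₀_left, one_mul, ι₀_right, tb_left, act_lt, h5]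

end Cfsg.Agent.Lib.Helper27.VF
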